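import Groth.Agent.Pic13.H542.CokerFamily
import Groth.Agent.CohqB.HomSheafCoh
import Groth.Agent.CurvesB.HZero
import Groth.Agent.S0002

/-!
# `Hom` of coherent modules on a proper `k`-scheme is finite-dimensional

`exists_span`: there are finitely many `φ_j : E₁ ⟶ E₀` such that every map `E₁ ⟶ E₀` is `∑ c_j φ_j`;
`isBounded_coker_all`: hence all cokernels of maps `E₁ ⟶ E₀` form a bounded family.
-/

set_option autoImplicit false
universe u

open CategoryTheory CategoryTheory.Limits AlgebraicGeometry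

namespace Groth.Agent.Pic13.H542.HomFin

open Groth.Agent.Pic13.H542.CokerFamily Groth.Agent.CohqB.HomSheaf

variable {X : Scheme.{u}} (E₁ E₀ : X.Modules)

/-- `H⁰(X, Hom(E₁, E₀)) ≃ Hom(E₁, E₀)`. -/
noncomputable def e0 : Coh.HH X (homSheaf E₁ E₀) 0 ≃+ (E₁ ⟶ E₀) :=
  (CurvesB.HZero.equivAdd _).trans (topEquiv E₁ E₀)

variable (k : Type u) [Field k] [X.Over (Spec (CommRingCat.of k))]

theorem e0_smul (t : k) (x : Coh.HH X (homSheaf E₁ E₀) 0) :
    e0 E₁ E₀ (t • x) = Formal.smulMod k E₁ t ≫ e0 E₁ E₀ x := by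
  apply Scheme.Modules.hom_ext
  intro U
  ext m
  change (topEquiv E₁ E₀ (CurvesB.HZero.equivAdd _ (t • x))).app U m = _
  rw [CurvesB.HZero.equivAdd_smul_over, topEquiv_app, comp_smul]
  refine Eq.trans ?_ ((comp (CurvesB.HZero.equivAdd (homSheaf E₁ E₀) x) U le_top).map_smul
    (X.presheaf.map (homOfLE (le_top (a := U))).op (CurvesB.HZero.gl k X t)) m).symm
  rfl

variable {E₁ E₀}

/-- **`Hom` of coherent modules on a proper `k`-scheme is finite-dimensional.** -/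
theorem exists_span [IsProper (X ↘ Spec (CommRingCat.of k))] (h₁ : Coh.IsCoh E₁) (h₀ : Coh.IsCoh E₀) :
    ∃ (r : ℕ) (φ : Fin r → (E₁ ⟶ E₀)), ∀ u : E₁ ⟶ E₀, ∃ c : Fin r → k, u = linComb k φ c := by
  have : IsLocallyNoetherian X := LocallyOfFiniteType.isLocallyNoetherian (X ↘ Spec (CommRingCat.of k))
  have hfin := S0002.result k X _ (isCoh_homSheaf h₁ h₀) 0
  obtain ⟨r, s, hs⟩ := Module.Finite.exists_fin (R := k) (M := Coh.HH X (homSheaf E₁ E₀) 0)
  refine ⟨r, fun j => e0 E₁ E₀ (s j), fun u => ?_⟩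
  have hu : (e0 E₁ E₀).symm u ∈ Submodule.span k (Set.range s) := by rw [hs]; trivial
  obtain ⟨c, hc⟩ := (Submodule.mem_span_range_iff_exists_fun k).1 hu
  refine ⟨c, ?_⟩
  rw [linComb, ← (e0 E₁ E₀).apply_symm_apply u, ← hc, map_sum]
  exact Finset.sum_congr rfl fun j _ => e0_smul E₁ E₀ k _ _

/-- **All cokernels of maps between two fixed coherent modules form a bounded family.** -/
theorem isBounded_coker_all [IsProper (X ↘ Spec (CommRingCat.of k))] (h₁ : Coh.IsCoh E₁) (h₀ : Coh.IsCoh E₀) :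
    Pic13.IsBounded k X (fun F => ∃ u : E₁ ⟶ E₀, Nonempty (cokernel u ≅ F)) := by
  obtain ⟨r, φ, hφ⟩ := exists_span k h₁ h₀
  obtain ⟨T, q, hq, hq', F, hF, h⟩ := isBounded_coker k φ h₁.1 h₀
  refine ⟨T, q, hq, hq', F, hF, ?_⟩
  rintro L ⟨u, ⟨e⟩⟩
  obtain ⟨c, rfl⟩ := hφ u
  exact h L ⟨c, ⟨e⟩⟩

end Groth.Agent.Pic13.H542.HomFin
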