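import Groth.Prelude.Def_Pic13
import Groth.Agent.Ega1.PullFormal
import Groth.Agent.Sga67.CohBasic
import Groth.Agent.FormalA.PullbackQC
import Mathlib.Algebra.MvPolynomial.Eval

/-!
# Cokernels of linear combinations of finitely many maps form a bounded family

For coherent modules `E₁`, `E₀` on a `k`-scheme `X` and maps `φ₁, …, φ_r : E₁ ⟶ E₀`, the modules
`coker (∑ c_j φ_j)`, `c ∈ k^r`, are the fibres of one coherent module on `X ×_k A^r`.
-/

set_option autoImplicit false
universe u

open CategoryTheory CategoryTheory.Limits AlgebraicGeometry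

namespace Groth.Agent.Pic13.H542.CokerFamily

variable (k : Type u) [Field k] (X : Scheme.{u}) [X.Over (Spec (CommRingCat.of k))]

section Slice

variable {T : Scheme.{u}} (q : T ⟶ Spec (CommRingCat.of k)) (t : Spec (CommRingCat.of k) ⟶ T) (ht : t ≫ q = 𝟙 _)

@[reassoc]
theorem sliceAt_fst : Pic13.sliceAt k X q t ht ≫ pullback.fst (X ↘ Spec (CommRingCat.of k)) q = 𝟙 X :=
  pullback.lift_fst _ _ _

@[reassoc]
theorem sliceAt_snd : Pic13.sliceAt k X q t ht ≫ pullback.snd (X ↘ Spec (CommRingCat.of k)) q =
    (X ↘ Spec (CommRingCat.of k)) ≫ t :=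
  pullback.lift_snd _ _ _

/-- Restricting a constant family to a slice gives back the module. -/
noncomputable def fibreConst :
    Scheme.Modules.pullback (pullback.fst (X ↘ Spec (CommRingCat.of k)) q) ⋙
      Scheme.Modules.pullback (Pic13.sliceAt k X q t ht) ≅ 𝟭 X.Modules :=
  Scheme.Modules.pullbackComp _ _ ≪≫ Scheme.Modules.pullbackCongr (sliceAt_fst k X q t ht) ≪≫
    Scheme.Modules.pullbackId X

/-- Functions coming from `T`, restricted to a slice. -/
theorem sliceAt_appTop (a : Γ(T, ⊤)) :
    (Pic13.sliceAt k X q t ht).appTop ((pullback.snd (X ↘ Spec (CommRingCat.of k)) q).appTop a) =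
      (X ↘ Spec (CommRingCat.of k)).appTop (t.appTop a) := by
  have h := sliceAt_snd k X q t ht
  have h1 := congr($(h).appTop a)
  rw [Scheme.Hom.comp_appTop, Scheme.Hom.comp_appTop] at h1
  exact h1

end Slice

section Coker

variable {X}
variable {r : ℕ} {E₁ E₀ : X.Modules} (φ : Fin r → (E₁ ⟶ E₀))

/-- The structure morphism of affine space `A^r_k`. -/
noncomputable def affProj (r : ℕ) : Spec (CommRingCat.of (MvPolynomial (Fin r) k)) ⟶ Spec (CommRingCat.of k) :=
  Spec.map (CommRingCat.ofHom MvPolynomial.C)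

/-- The `k`-point of `A^r_k` with coordinates `c`. -/
noncomputable def affPt {r : ℕ} (c : Fin r → k) :
    Spec (CommRingCat.of k) ⟶ Spec (CommRingCat.of (MvPolynomial (Fin r) k)) :=
  Spec.map (CommRingCat.ofHom (MvPolynomial.eval c))

theorem affPt_affProj {r : ℕ} (c : Fin r → k) : affPt k c ≫ affProj k r = 𝟙 _ := by
  rw [affPt, affProj, ← Spec.map_comp, ← Spec.map_id]
  congr 1
  ext a
  simp

/-- The `j`-th coordinate function on `A^r_k`. -/
noncomputable def coord {r : ℕ} (j : Fin r) : Γ(Spec (CommRingCat.of (MvPolynomial (Fin r) k)), ⊤) :=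
  (Scheme.ΓSpecIso (CommRingCat.of (MvPolynomial (Fin r) k))).inv (MvPolynomial.X j)

theorem affPt_appTop_coord {r : ℕ} (c : Fin r → k) (j : Fin r) :
    (affPt k c).appTop (coord k j) = (Scheme.ΓSpecIso (CommRingCat.of k)).inv (c j) := by
  have h := Scheme.ΓSpecIso_inv_naturality (CommRingCat.ofHom (MvPolynomial.eval (R := k) c))
  have h1 := congr($(h) (MvPolynomial.X j))
  refine Eq.trans ?_ (h1.symm.trans ?_)
  · rfl
  · change (Scheme.ΓSpecIso (CommRingCat.of k)).inv (MvPolynomial.eval c (MvPolynomial.X j)) = _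
    rw [MvPolynomial.eval_X]

/-- The pulled back coordinate function on `X ×_k A^r`. -/
noncomputable def coordX (X : Scheme.{u}) [X.Over (Spec (CommRingCat.of k))] {r : ℕ} (j : Fin r) :
    Coh.Γtop (Pic13.prodK k X (affProj k r)) :=
  (pullback.snd (X ↘ Spec (CommRingCat.of k)) (affProj k r)).appTop (coord k j)

theorem slice_coordX (X : Scheme.{u}) [X.Over (Spec (CommRingCat.of k))] {r : ℕ} (c : Fin r → k) (j : Fin r) :
    (Pic13.sliceAt k X (affProj k r) (affPt k c) (affPt_affProj k c)).appTop.hom (coordX k X j) =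
      Coh.toGlobal (X ↘ Spec (CommRingCat.of k)) (c j) := by
  have h := sliceAt_appTop k X (affProj k r) (affPt k c) (affPt_affProj k c) (coord k j)
  rw [affPt_appTop_coord] at h
  exact h

/-- The universal linear combination `∑ z_j φ_j` on `X ×_k A^r`. -/
noncomputable def univMap :
    (Scheme.Modules.pullback (pullback.fst (X ↘ Spec (CommRingCat.of k)) (affProj k r))).obj E₁ ⟶
      (Scheme.Modules.pullback (pullback.fst (X ↘ Spec (CommRingCat.of k)) (affProj k r))).obj E₀ :=
  ∑ j, Formal.smulModΓ _ (coordX k X j) ≫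
    (Scheme.Modules.pullback (pullback.fst (X ↘ Spec (CommRingCat.of k)) (affProj k r))).map (φ j)

/-- The linear combination `∑ c_j φ_j`. -/
noncomputable def linComb (c : Fin r → k) : E₁ ⟶ E₀ :=
  ∑ j, Formal.smulMod k E₁ (c j) ≫ φ j

theorem pull_univMap (c : Fin r → k) :
    (Scheme.Modules.pullback (Pic13.sliceAt k X (affProj k r) (affPt k c) (affPt_affProj k c))).map (univMap k φ) ≫
      (fibreConst k X (affProj k r) (affPt k c) (affPt_affProj k c)).hom.app E₀ =
    (fibreConst k X (affProj k r) (affPt k c) (affPt_affProj k c)).hom.app E₁ ≫ linComb k φ c := by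
  rw [univMap, linComb, Functor.map_sum, Preadditive.sum_comp, Preadditive.comp_sum]
  refine Finset.sum_congr rfl fun j _ => ?_
  rw [Functor.map_comp, Ega1.PullFormal.pullback_smulModΓ, slice_coordX, Category.assoc]
  have h1 := (fibreConst k X (affProj k r) (affPt k c) (affPt_affProj k c)).hom.naturality (φ j)
  simp only [Functor.comp_map, Functor.id_map] at h1
  rw [h1, ← Category.assoc, ← Category.assoc]
  congr 1
  exact FormalB.ModPow.smulModΓ_naturality _ _

/-- The fibre of the universal cokernel at the point `c`. -/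
noncomputable def fibreCoker (c : Fin r → k) :
    Pic13.fibreMod k X (affProj k r) (affPt k c) (affPt_affProj k c) (cokernel (univMap k φ)) ≅
      cokernel (linComb k φ c) :=
  PreservesCokernel.iso (Scheme.Modules.pullback
      (Pic13.sliceAt k X (affProj k r) (affPt k c) (affPt_affProj k c))) (univMap k φ) ≪≫
    cokernel.mapIso _ _ ((fibreConst k X (affProj k r) (affPt k c) (affPt_affProj k c)).app E₁)
      ((fibreConst k X (affProj k r) (affPt k c) (affPt_affProj k c)).app E₀) (pull_univMap k φ c)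

/-- **Cokernels of linear combinations form a bounded family.** -/
theorem isBounded_coker (h₁ : Coh.IsQCoh E₁) (h₀ : Coh.IsCoh E₀) :
    Pic13.IsBounded k X (fun F => ∃ c : Fin r → k, Nonempty (cokernel (linComb k φ c) ≅ F)) := by
  refine ⟨_, affProj k r, ?_, inferInstanceAs (QuasiCompact (Spec.map _)), cokernel (univMap k φ),
    Sga67.CohBasic.isCoh_cokernel _ (FormalA.PullbackQC.isQCoh_pullback _ _ h₁)
      (FormalA.PullbackQC.isCoh_pullback _ _ h₀), ?_⟩
  · rw [affProj, HasRingHomProperty.Spec_iff (P := @LocallyOfFiniteType)]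
    exact RingHom.finiteType_algebraMap.mpr (inferInstanceAs (Algebra.FiniteType k (MvPolynomial (Fin r) k)))
  · rintro L ⟨c, ⟨e⟩⟩
    exact ⟨affPt k c, affPt_affProj k c, ⟨fibreCoker k φ c ≪≫ e⟩⟩

end Coker

end Groth.Agent.Pic13.H542.CokerFamily
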