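import Groth.Agent.Pic13.H542.CokerFamily
import Groth.Agent.Pic13.H138.Slice
import Mathlib.CategoryTheory.Comma.Arrow

/-!
# The universal linear combination of maps in a family

For `F G` on `X ×_k T` and maps `φ_1, …, φ_r : F ⟶ G`, the universal linear combination `∑ z_j φ_j` lives on
`X ×_k (T ×_k A^r)`; its fibre at `(t, c)` is `∑ c_j (φ_j)_t`.
-/

set_option autoImplicit false
universe u

open CategoryTheory CategoryTheory.Limits AlgebraicGeometry

namespace Groth.Agent.Pic13.H542.UnivHom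

open Groth.Agent.Pic13.H542.CokerFamily Groth.Agent.Pic13.H138.Slice

variable (k : Type u) [Field k] {X : Scheme.{u}} [X.Over (Spec (CommRingCat.of k))]

local notation "Sk" => Spec (CommRingCat.of k)

variable {T : Scheme.{u}} (q : T ⟶ Spec (CommRingCat.of k)) (r : ℕ)

/-- `T ×_k A^r`. -/
noncomputable abbrev T2 : Scheme.{u} := pullback q (affProj k r)

/-- The projection `T ×_k A^r ⟶ T`. -/
noncomputable abbrev toT : T2 k q r ⟶ T := pullback.fst q (affProj k r)

/-- The structure morphism of `T ×_k A^r`. -/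
noncomputable abbrev q2 : T2 k q r ⟶ Spec (CommRingCat.of k) := toT k q r ≫ q

instance : LocallyOfFiniteType (affProj k r) := by
  rw [affProj, HasRingHomProperty.Spec_iff (P := @LocallyOfFiniteType)]
  exact RingHom.finiteType_algebraMap.mpr (inferInstanceAs (Algebra.FiniteType k (MvPolynomial (Fin r) k)))

instance : IsAffineHom (affProj k r) := by unfold affProj; infer_instance

instance [LocallyOfFiniteType q] : LocallyOfFiniteType (q2 k q r) := inferInstance
instance [QuasiCompact q] : QuasiCompact (q2 k q r) := inferInstance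

variable {r}

/-- The `k`-point `(t, c)` of `T ×_k A^r`. -/
noncomputable def pt2 (t : Spec (CommRingCat.of k) ⟶ T) (ht : t ≫ q = 𝟙 _) (c : Fin r → k) :
    Spec (CommRingCat.of k) ⟶ T2 k q r :=
  pullback.lift t (affPt k c) (by rw [ht, affPt_affProj])

theorem pt2_toT (t : Spec (CommRingCat.of k) ⟶ T) (ht : t ≫ q = 𝟙 _) (c : Fin r → k) :
    pt2 k q t ht c ≫ toT k q r = t := pullback.lift_fst _ _ _

theorem pt2_q2 (t : Spec (CommRingCat.of k) ⟶ T) (ht : t ≫ q = 𝟙 _) (c : Fin r → k) :
    pt2 k q t ht c ≫ q2 k q r = 𝟙 _ := by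
  rw [← Category.assoc, pt2_toT, ht]

variable (X) in
/-- The pulled back coordinate functions on `X ×_k (T ×_k A^r)`. -/
noncomputable def coord2 (j : Fin r) : Coh.Γtop (Pic13.prodK k X (q2 k q r)) :=
  (pullback.snd (X ↘ Spec (CommRingCat.of k)) (q2 k q r)).appTop
    ((pullback.snd q (affProj k r)).appTop (coord k j))

theorem slice_coord2 (t : Spec (CommRingCat.of k) ⟶ T) (ht : t ≫ q = 𝟙 _) (c : Fin r → k) (j : Fin r) :
    (Pic13.sliceAt k X (q2 k q r) (pt2 k q t ht c) (pt2_q2 k q t ht c)).appTop.hom (coord2 k X q j) =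
      Coh.toGlobal (X ↘ Spec (CommRingCat.of k)) (c j) := by
  have h := sliceAt_appTop k X (q2 k q r) (pt2 k q t ht c) (pt2_q2 k q t ht c)
    ((pullback.snd q (affProj k r)).appTop (coord k j))
  have h2 : (pt2 k q t ht c).appTop ((pullback.snd q (affProj k r)).appTop (coord k j)) =
      (Scheme.ΓSpecIso (CommRingCat.of k)).inv (c j) := by
    rw [← affPt_appTop_coord]
    have h3 : pt2 k q t ht c ≫ pullback.snd q (affProj k r) = affPt k c := pullback.lift_snd _ _ _
    have h4 := congr($(h3).appTop (coord k j))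
    rw [Scheme.Hom.comp_appTop] at h4
    exact h4
  rw [h2] at h
  exact h

theorem slice_bcT (t : Spec (CommRingCat.of k) ⟶ T) (ht : t ≫ q = 𝟙 _) (c : Fin r → k) :
    Pic13.sliceAt k X (q2 k q r) (pt2 k q t ht c) (pt2_q2 k q t ht c) ≫ bcT k X q (q2 k q r) (toT k q r) rfl =
      Pic13.sliceAt k X q t ht := by
  rw [sliceAt_bcT]
  congr 1
  exact pt2_toT k q t ht c

/-- The fibre at `(t, c)` of a module coming from `X ×_k T`. -/
noncomputable def fibreIso (t : Spec (CommRingCat.of k) ⟶ T) (ht : t ≫ q = 𝟙 _) (c : Fin r → k) :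
    Scheme.Modules.pullback (bcT k X q (q2 k q r) (toT k q r) rfl) ⋙
      Scheme.Modules.pullback (Pic13.sliceAt k X (q2 k q r) (pt2 k q t ht c) (pt2_q2 k q t ht c)) ≅
    Scheme.Modules.pullback (Pic13.sliceAt k X q t ht) :=
  Scheme.Modules.pullbackComp _ _ ≪≫ Scheme.Modules.pullbackCongr (slice_bcT k q t ht c)

variable {F G : (Pic13.prodK k X q).Modules} (φ : Fin r → (F ⟶ G))

/-- The universal linear combination `∑ z_j φ_j`. -/
noncomputable def univ2 :
    (Scheme.Modules.pullback (bcT k X q (q2 k q r) (toT k q r) rfl)).obj F ⟶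
      (Scheme.Modules.pullback (bcT k X q (q2 k q r) (toT k q r) rfl)).obj G :=
  ∑ j, Formal.smulModΓ _ (coord2 k X q j) ≫
    (Scheme.Modules.pullback (bcT k X q (q2 k q r) (toT k q r) rfl)).map (φ j)

theorem pull_univ2 (t : Spec (CommRingCat.of k) ⟶ T) (ht : t ≫ q = 𝟙 _) (c : Fin r → k) :
    (Scheme.Modules.pullback (Pic13.sliceAt k X (q2 k q r) (pt2 k q t ht c) (pt2_q2 k q t ht c))).map
      (univ2 k q φ) ≫ (fibreIso k q t ht c).hom.app G =
    (fibreIso k q t ht c).hom.app F ≫
      linComb k (fun j => (Scheme.Modules.pullback (Pic13.sliceAt k X q t ht)).map (φ j)) c := by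
  rw [univ2, linComb, Functor.map_sum, Preadditive.sum_comp, Preadditive.comp_sum]
  refine Finset.sum_congr rfl fun j _ => ?_
  rw [Functor.map_comp, Ega1.PullFormal.pullback_smulModΓ, slice_coord2, Category.assoc]
  have h1 := (fibreIso k q t ht c).hom.naturality (φ j)
  simp only [Functor.comp_map] at h1
  rw [h1, ← Category.assoc, ← Category.assoc]
  congr 1
  exact FormalB.ModPow.smulModΓ_naturality _ _

/-- The fibre at `(t, c)` of the universal linear combination, as an isomorphism of arrows. -/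
noncomputable def arrowIso (t : Spec (CommRingCat.of k) ⟶ T) (ht : t ≫ q = 𝟙 _) (c : Fin r → k) :
    Arrow.mk ((Scheme.Modules.pullback (Pic13.sliceAt k X (q2 k q r) (pt2 k q t ht c)
      (pt2_q2 k q t ht c))).map (univ2 k q φ)) ≅
    Arrow.mk (linComb k (fun j => (Scheme.Modules.pullback (Pic13.sliceAt k X q t ht)).map (φ j)) c) :=
  Arrow.isoMk ((fibreIso k q t ht c).app F) ((fibreIso k q t ht c).app G) (pull_univ2 k q φ t ht c).symm

/-- **Universal linear combination** of maps in a family over `T`: over a scheme `T₂` of finite type there is a map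
whose fibres at suitable points `t₂` over `t` are the combinations `∑ c_j (φ_j)_t`. -/
theorem exists_univ [LocallyOfFiniteType q] [QuasiCompact q] :
    ∃ (T₂ : Scheme.{u}) (q₂ : T₂ ⟶ Spec (CommRingCat.of k)), LocallyOfFiniteType q₂ ∧ QuasiCompact q₂ ∧
      ∃ (h : T₂ ⟶ T) (hh : h ≫ q = q₂) (v : (Scheme.Modules.pullback (bcT k X q q₂ h hh)).obj F ⟶
        (Scheme.Modules.pullback (bcT k X q q₂ h hh)).obj G),
      ∀ (t : Spec (CommRingCat.of k) ⟶ T) (ht : t ≫ q = 𝟙 _) (c : Fin r → k),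
        ∃ (t₂ : Spec (CommRingCat.of k) ⟶ T₂) (ht₂ : t₂ ≫ q₂ = 𝟙 _), t₂ ≫ h = t ∧
          Nonempty (Arrow.mk ((Scheme.Modules.pullback (Pic13.sliceAt k X q₂ t₂ ht₂)).map v) ≅
            Arrow.mk (linComb k (fun j => (Scheme.Modules.pullback (Pic13.sliceAt k X q t ht)).map (φ j)) c)) :=
  ⟨T2 k q r, q2 k q r, inferInstance, inferInstance, toT k q r, rfl, univ2 k q φ, fun t ht c =>
    ⟨pt2 k q t ht c, pt2_q2 k q t ht c, pt2_toT k q t ht c, ⟨arrowIso k q φ t ht c⟩⟩⟩

/-- Kernels of isomorphic arrows are isomorphic. -/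
theorem nonempty_kernel_iso {C : Type*} [Category C] [HasZeroMorphisms C] {A B A' B' : C} {f : A ⟶ B} {g : A' ⟶ B'}
    [HasKernel f] [HasKernel g] (h : Nonempty (Arrow.mk f ≅ Arrow.mk g)) : Nonempty (kernel f ≅ kernel g) := by
  obtain ⟨e⟩ := h
  exact ⟨kernel.mapIso f g (Arrow.leftFunc.mapIso e) (Arrow.rightFunc.mapIso e) e.hom.w.symm⟩

/-- Cokernels of isomorphic arrows are isomorphic. -/
theorem nonempty_cokernel_iso {C : Type*} [Category C] [HasZeroMorphisms C] {A B A' B' : C} {f : A ⟶ B}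
    {g : A' ⟶ B'} [HasCokernel f] [HasCokernel g] (h : Nonempty (Arrow.mk f ≅ Arrow.mk g)) :
    Nonempty (cokernel f ≅ cokernel g) := by
  obtain ⟨e⟩ := h
  exact ⟨cokernel.mapIso f g (Arrow.leftFunc.mapIso e) (Arrow.rightFunc.mapIso e) e.hom.w.symm⟩

end Groth.Agent.Pic13.H542.UnivHom
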